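import Cfsg.Agent.H795.RIM.AffCover

/-!
# S4816, `U₆(2)`, `p = 5`: the fixed space of `x` has codimension at least 12 (helper795)
-/

set_option autoImplicit false
set_option linter.unusedSectionVars false
set_option linter.style.haveILetI false

namespace Cfsg.Agent.H795.RIM.Aff

open Cfsg.Agent.SporadicA.FieldFour F4 Cfsg.Agent.H887.RIM Module
open scoped commutatorElement

/-- the subgroup generated by the sixteen elements -/
def AA {E : Type*} [Group E] (qh : I → E) (t : E) : Subgroup E := Subgroup.closure (Set.range (tl qh t))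

theorem tl_mem {E : Type*} [Group E] (qh : I → E) (t : E) (u : I) : tl qh t u ∈ AA qh t :=
  Subgroup.subset_closure ⟨u, rfl⟩

theorem AA_comm {E : Type*} [Group E] {qh : I → E} {t : E}
    (hc : ∀ a b, tl qh t a * tl qh t b = tl qh t b * tl qh t a) : ∀ a ∈ AA qh t, ∀ b ∈ AA qh t, a * b = b * a := by
  have h1 : ∀ u, ∀ a ∈ AA qh t, a * tl qh t u = tl qh t u * a := by
    intro u a ha
    have h2 : AA qh t ≤ Subgroup.centralizer {tl qh t u} := by
      unfold AA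
      rw [Subgroup.closure_le]
      rintro _ ⟨b, rfl⟩
      exact Subgroup.mem_centralizer_singleton_iff.2 (hc b u)
    exact Subgroup.mem_centralizer_singleton_iff.1 (h2 ha)
  intro a ha b hb
  have h2 : AA qh t ≤ Subgroup.centralizer {a} := by
    unfold AA
    rw [Subgroup.closure_le]
    rintro _ ⟨u, rfl⟩
    exact Subgroup.mem_centralizer_singleton_iff.2 (h1 u a ha).symm
  exact (Subgroup.mem_centralizer_singleton_iff.1 (h2 hb)).symm

theorem AA_norm {E : Type*} [Group E] {qh : I → E} {t g : E} {Y : I → I}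
    (hg : ∀ u, g * tl qh t u * g⁻¹ = tl qh t (Y u)) : ∀ a ∈ AA qh t, g * a * g⁻¹ ∈ AA qh t := by
  intro a ha
  have h2 : AA qh t ≤ (AA qh t).comap (MulAut.conj g).toMonoidHom := by
    conv_lhs => unfold AA
    rw [Subgroup.closure_le]
    rintro _ ⟨u, rfl⟩
    change g * tl qh t u * g⁻¹ ∈ AA qh t
    rw [hg]
    exact tl_mem qh t _
  exact h2 ha

theorem AA_card {S E : Type*} [Group S] [Group E] [Finite E] {π : E →* S} {qh : I → E} {t : E}
    (hc : ∀ a b, tl qh t a * tl qh t b = tl qh t b * tl qh t a) (ht : ∀ u, tl qh t u * tl qh t u ∈ π.ker)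
    {p : ℕ} (hp : p.Prime) (hp2 : p ≠ 2) (hk : ¬ p ∣ Nat.card π.ker) : ¬ p ∣ Nat.card (AA qh t) := by
  haveI : Fact p.Prime := ⟨hp⟩
  intro hd
  obtain ⟨⟨a, ha⟩, hao⟩ := exists_prime_orderOf_dvd_card' p hd
  rw [Subgroup.orderOf_mk] at hao
  have hcomm := AA_comm hc
  have h1 : ∀ a ∈ AA qh t, a * a ∈ π.ker := by
    intro a ha
    refine Subgroup.closure_induction (p := fun a _ => a * a ∈ π.ker) ?_ ?_ ?_ ?_ ha
    · rintro _ ⟨u, rfl⟩
      exact ht u
    · rw [one_mul]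
      exact one_mem _
    · intro a b ha hb h1 h2
      have h3 : a * b * (a * b) = a * a * (b * b) := by
        rw [mul_assoc, mul_assoc, ← mul_assoc b a b, ← hcomm a ha b hb, mul_assoc]
      rw [h3]
      exact mul_mem h1 h2
    · intro a ha h1
      rw [← mul_inv_rev]
      exact inv_mem h1
  have h2 := h1 a ha
  have h3 : (a * a) ^ Nat.card π.ker = 1 := by
    have h4 : (⟨a * a, h2⟩ : π.ker) ^ Nat.card π.ker = 1 := pow_card_eq_one'
    exact congrArg Subtype.val h4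
  rw [← pow_two, ← pow_mul] at h3
  have h4 := orderOf_dvd_of_pow_eq_one h3
  rw [hao] at h4
  rcases hp.dvd_mul.1 h4 with h5 | h5
  · exact hp2 ((Nat.prime_dvd_prime_iff_eq hp Nat.prime_two).1 h5)
  · exact hk h5

/-- **the codimension of the fixed space of `x` is at least 12** -/
theorem codim {S E : Type*} [Group S] [Group E] [Finite E] (D : Dat S) {π : E →* S} (hπ : Function.Surjective π)
    (hker : π.ker ≤ Subgroup.center E) {p : ℕ} (hp : p.Prime) (hp2 : p ≠ 2) (hk : ¬ p ∣ Nat.card π.ker)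
    {V : Type*} [AddCommGroup V] [Finite V] [DistribMulAction E V] (hV : ∀ v : V, p • v = 0)
    (hf : ∀ g : E, (∀ v : V, g • v = v) → g = 1) {x : E} (hx : π x = D.x) (hx5 : x ^ 5 = 1) {m : ℕ}
    (hm : Nat.card V ≤ p ^ m * Nat.card {v : V // x • v = v}) : 12 ≤ m := by
  classical
  choose qh hq using fun u => hπ (D.q u)
  obtain ⟨t, ht⟩ := hπ D.t
  obtain ⟨h, hh⟩ := hπ D.h
  have hc := tl_comm D hker hq ht hx hh
  have hmt := map_tl D hq ht
  have hA := AA_comm hc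
  have hsq : ∀ u, tl qh t u * tl qh t u ∈ π.ker := by
    intro u
    rw [MonoidHom.mem_ker, map_mul, hmt]
    unfold tl
    have h1 : D.q u * D.t * (D.q u)⁻¹ * (D.q u * D.t * (D.q u)⁻¹) = D.q u * (D.t * D.t) * (D.q u)⁻¹ := by group
    rw [h1, D.tt, mul_one, mul_inv_cancel]
  have hAp := AA_card (π := π) hc hsq hp hp2 hk
  obtain ⟨K, _, _, _, W, _, _, _, ρ, hcard, hkr, hfix⟩ := exists_lin (H := E) hp hV
  have hN : (Nat.card (AA qh t) : K) ≠ 0 := by rwa [Ne, CharP.cast_eq_zero_iff K p]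
  haveI : Fintype (AA qh t →* Kˣ) := Fintype.ofFinite _
  let fn : (AA qh t →* Kˣ) → (I → Kˣ) := fun χ u => χ ⟨tl qh t u, tl_mem qh t u⟩
  let Ω : Finset (I → Kˣ) := (Finset.univ.filter fun χ : AA qh t →* Kˣ => wc ρ (AA qh t) χ ≠ ⊥).image fn
  have hΩ : ∀ f, f ∈ Ω ↔ ∃ χ : AA qh t →* Kˣ, wc ρ (AA qh t) χ ≠ ⊥ ∧ fn χ = f := by
    intro f
    simp only [Ω, Finset.mem_image, Finset.mem_filter, Finset.mem_univ, true_and]
  have hcl : ∀ (g : E) (Y : I → I), (∀ u, g * tl qh t u * g⁻¹ = tl qh t (Y u)) → ∀ f ∈ Ω, (fun u => f (Y u)) ∈ Ω := by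
    intro g Y hg f hf
    obtain ⟨χ, hχ, rfl⟩ := (hΩ f).1 hf
    refine (hΩ _).2 ⟨χ.comp (cjA (AA_norm hg)), wc_twist ρ (AA_norm hg) hχ, ?_⟩
    funext u
    change χ (cjA (AA_norm hg) ⟨tl qh t u, _⟩) = χ ⟨tl qh t (Y u), _⟩
    congr 1
    exact Subtype.ext (hg u)
  have hxx := conj_x D hker hq ht hx
  have hne : tl qh t e ≠ tl qh t 0 := by
    intro h1
    apply D.ne
    rw [← hmt, ← hmt, h1]
  have hce : ρ ((⟨tl qh t e, tl_mem qh t e⟩ * (⟨tl qh t 0, tl_mem qh t 0⟩)⁻¹ : AA qh t) : E) ≠ 1 := by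
    intro h1
    have h2 := hf _ ((hkr _).1 h1)
    exact hne (mul_inv_eq_one.1 h2)
  obtain ⟨χ, hχ, hχe⟩ := exists_wc ρ hA hN hce
  have hncn : ¬ IsC (fn χ) := by
    intro h1
    apply hχe
    rw [map_mul, map_inv, mul_inv_eq_one]
    exact h1 e 0
  obtain ⟨T, hT14, hT⟩ := count Ω (fun f hf a => by
      have h1 := hcl (qh a) (fun u => u + a) (fun u => by rw [conj_q D hker hq ht, add_comm]) f hf
      exact h1)
    (hcl x X hxx) (hcl h H (conj_h D hker hq ht hh)) ((hΩ _).2 ⟨χ, hχ, rfl⟩) hncn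
  choose! ψ hψ1 hψ2 using fun f (hf : f ∈ T) => (hΩ f).1 (hT f hf).1
  have hinj : Set.InjOn ψ T := by
    intro f hf g hg hfg
    rw [← hψ2 f hf, ← hψ2 g hg, hfg]
  have h0 := at0 ρ hA hN (AA_norm hxx) (s := 5) (by norm_num) hx5 (T.image ψ) (by
    intro η hη
    obtain ⟨f, hf, rfl⟩ := Finset.mem_image.1 hη
    refine ⟨hψ1 f hf, fun h1 => (hT f hf).2 ?_⟩
    funext u
    rw [← hψ2 f hf]
    change ψ f ⟨tl qh t (X u), _⟩ = ψ f ⟨tl qh t u, _⟩
    conv_rhs => rw [← h1]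
    change _ = ψ f (cjA (AA_norm hxx) ⟨tl qh t u, _⟩)
    congr 1
    exact Subtype.ext (hxx u).symm)
  rw [Finset.card_image_of_injOn hinj] at h0
  rw [hcard, hfix x] at hm
  have h1 := codim_aux hp.one_lt hm h0
  omega

end Cfsg.Agent.H795.RIM.Aff
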