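import Cfsg.Agent.SporadicA.FieldFour

/-!
# S4816, `U₆(2)`, `p = 5`: functions on the affine plane of order 4 (helper795)

`count`: a finite set of functions on `F₄²` closed under the translations and under the maps `X`, `H` of `SL₂(4)` (order 5
and 3), with a member which is not constant, has at least 14 members `f` with `f ∘ X ≠ f`.
-/

set_option autoImplicit false
set_option linter.unusedSectionVars false

namespace Cfsg.Agent.H795.RIM.Aff

open Cfsg.Agent.SporadicA.FieldFour F4

abbrev I := F4 × F4

def X (u : I) : I := (u.2, u.1 + w * u.2)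

def H (u : I) : I := (u.2, u.1 + u.2)

def e : I := (o, z)

theorem X_add : ∀ u v : I, X (u + v) = X u + X v := by decide +kernel

theorem H_add : ∀ u v : I, H (u + v) = H u + H v := by decide +kernel

theorem X_zero : X 0 = 0 := by decide

theorem H_zero : H 0 = 0 := by decide

theorem X_surj : ∀ u : I, ∃ v, X v = u := by decide +kernel

theorem H_surj : ∀ u : I, ∃ v, H v = u := by decide +kernel

theorem X_fix : ∀ u : I, X u = u → u = 0 := by decide +kernel

theorem add_self : ∀ u : I, u + u = 0 := by decide +kernel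

theorem e_ne : e ≠ 0 := by decide

theorem cardI : Fintype.card I = 16 := by decide

theorem trans : ∀ r s : I, r ≠ 0 → s ≠ 0 → ∃ i j k : Fin 5, X^[i] (H^[j] (X^[k] r)) = s := by decide +kernel

theorem gen : ∀ r s : I, r ≠ 0 → ∃ a b c d : Bool, s = cond a r 0 + cond b (X r) 0 + cond c (X (X r)) 0 +
    cond d (X (X (X r))) 0 := by decide +kernel

variable {κ : Type*}

/-- constant functions -/
def IsC (f : I → κ) : Prop := ∀ u v, f u = f v

/-- invariance under the translation by `r` -/
def Inv (f : I → κ) (r : I) : Prop := ∀ u, f (u + r) = f u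

theorem Inv.add {f : I → κ} {r s : I} (hr : Inv f r) (hs : Inv f s) : Inv f (r + s) := fun u => by
  rw [← add_assoc, hs, hr]

theorem Inv.zero {f : I → κ} : Inv f 0 := fun u => by rw [add_zero]

theorem Inv.cond {f : I → κ} {r : I} (hr : Inv f r) (a : Bool) : Inv f (cond a r 0) := by
  cases a
  · exact Inv.zero
  · exact hr

theorem inv_X {f : I → κ} (hf : ∀ u, f (X u) = f u) {r : I} (hr : Inv f r) : Inv f (X r) := by
  intro u
  obtain ⟨v, rfl⟩ := X_surj u
  rw [← X_add, hf, hf, hr]

theorem isC_of_inv {f : I → κ} (h : ∀ r, Inv f r) : IsC f := by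
  intro u v
  have h1 := h u 0
  have h2 := h v 0
  rw [zero_add] at h1 h2
  rw [h1, h2]

theorem eq_zero_of_inv {f : I → κ} (hf : ∀ u, f (X u) = f u) (hc : ¬ IsC f) {r : I} (hr : Inv f r) : r = 0 := by
  by_contra h0
  apply hc
  apply isC_of_inv
  intro s
  obtain ⟨a, b, c, d, rfl⟩ := gen r s h0
  exact (((hr.cond a).add ((inv_X hf hr).cond b)).add ((inv_X hf (inv_X hf hr)).cond c)).add
    ((inv_X hf (inv_X hf (inv_X hf hr))).cond d)

/-- **the case of an `X`-invariant function** -/
theorem count_fix {f : I → κ} (hf : ∀ u, f (X u) = f u) (hc : ¬ IsC f) :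
    ∃ T : Finset (I → κ), 14 ≤ T.card ∧ ∀ g ∈ T, (∃ a, g = fun u => f (u + a)) ∧ (fun u => g (X u)) ≠ g := by
  classical
  have hinj : Function.Injective fun (a : I) (u : I) => f (u + a) := by
    intro a b hab
    have h1 : Inv f (a + b) := by
      intro u
      have h2 : f (u + a) = f (u + a + (a + b)) := by
        have h3 := congrFun hab (u + a + a)
        have h4 := congrFun hab (u + a + (a + b) + b)
        simp only at h3 h4
        have e1 : u + a + a + a = u + a := by rw [add_assoc (u + a), add_self, add_zero]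
        have e2 : u + a + a + b = u + b := by rw [add_assoc u, add_self, add_zero]
        rw [e1, e2] at h3
        have e3 : u + a + (a + b) = u + b := by rw [← add_assoc, e2]
        rw [h3, e3]
      have h5 := congrFun hab u
      simp only at h5
      have h6 := congrFun hab (u + a)
      simp only at h6
      have e1 : u + a + a = u := by rw [add_assoc, add_self, add_zero]
      rw [e1, add_assoc] at h6
      exact h6.symm
    have h2 := eq_zero_of_inv hf hc h1
    calc a = a + (b + b) := by rw [add_self, add_zero]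
      _ = (a + b) + b := by rw [add_assoc]
      _ = b := by rw [h2, zero_add]
  refine ⟨(Finset.univ.erase (0 : I)).image fun a u => f (u + a), ?_, ?_⟩
  · rw [Finset.card_image_of_injective _ hinj, Finset.card_erase_of_mem (Finset.mem_univ _), Finset.card_univ]
    decide
  · intro g hg
    obtain ⟨a, ha, rfl⟩ := Finset.mem_image.1 hg
    refine ⟨⟨a, rfl⟩, fun h => (Finset.mem_erase.1 ha).1 (X_fix a ?_)⟩
    have h1 : Inv f (a + X a) := by
      intro u
      obtain ⟨v, hv⟩ := X_surj (u + a)
      have h2 := congrFun h v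
      simp only at h2
      -- `f (X v + a) = f (v + a) = f (X v + X a)`
      rw [← hf (v + a), X_add, hv] at h2
      rw [← add_assoc, ← h2, add_assoc, add_self, add_zero]
    have h2 := eq_zero_of_inv hf hc h1
    calc X a = a + (a + X a) := by rw [← add_assoc, add_self, zero_add]
      _ = a := by rw [h2, add_zero]

theorem sum_two (F : I → ℕ) (h : ∀ r s : I, r ≠ 0 → s ≠ 0 → F r ≤ F s) : ∑ a : I, F a = F 0 + 15 * F e := by
  have h1 : F 0 + ∑ a ∈ Finset.univ.erase (0 : I), F a = ∑ a : I, F a :=
    Finset.add_sum_erase Finset.univ F (Finset.mem_univ (0 : I))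
  have h2 : ∑ a ∈ Finset.univ.erase (0 : I), F a = ∑ a ∈ Finset.univ.erase (0 : I), F e :=
    Finset.sum_congr rfl fun a ha => le_antisymm (h a e (Finset.mem_erase.1 ha).1 e_ne)
      (h e a e_ne (Finset.mem_erase.1 ha).1)
  rw [Finset.sum_const, smul_eq_mul, Finset.card_erase_of_mem (Finset.mem_univ _), Finset.card_univ, cardI] at h2
  rw [← h1, h2]

/-- **the number of functions which are not constant** -/
theorem count_nc (T : Finset (I → κ)) (htr : ∀ f ∈ T, ∀ a, (fun u => f (u + a)) ∈ T)
    (hX : ∀ f ∈ T, (fun u => f (X u)) ∈ T) (hH : ∀ f ∈ T, (fun u => f (H u)) ∈ T)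
    {f₀ : I → κ} (hf₀ : f₀ ∈ T) (hc : ¬ IsC f₀) : 14 ≤ T.card := by
  classical
  let act : MulAction (Multiplicative I) T :=
    { smul := fun a f => ⟨fun u => f.1 (u + Multiplicative.toAdd a), htr f.1 f.2 _⟩
      one_smul := by
        intro f
        apply Subtype.ext
        funext u
        change f.1 (u + 0) = f.1 u
        rw [add_zero]
      mul_smul := by
        intro a b f
        apply Subtype.ext
        funext u
        change f.1 (u + (Multiplicative.toAdd a + Multiplicative.toAdd b)) =
          f.1 (u + Multiplicative.toAdd a + Multiplicative.toAdd b)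
        rw [add_assoc] }
  let F : I → ℕ := fun r => (T.filter fun f => Inv f r).card
  have hFX : ∀ r, F (X r) ≤ F r := by
    intro r
    refine Finset.card_le_card_of_injOn (fun f u => f (X u)) ?_ ?_
    · intro f hf
      obtain ⟨h1, h2⟩ := Finset.mem_filter.1 (Finset.mem_coe.1 hf)
      refine Finset.mem_coe.2 (Finset.mem_filter.2 ⟨hX f h1, fun u => ?_⟩)
      change f (X (u + r)) = f (X u)
      rw [X_add, h2]
    · intro f _ g _ h
      funext u
      obtain ⟨v, rfl⟩ := X_surj u
      exact congrFun h v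
  have hFH : ∀ r, F (H r) ≤ F r := by
    intro r
    refine Finset.card_le_card_of_injOn (fun f u => f (H u)) ?_ ?_
    · intro f hf
      obtain ⟨h1, h2⟩ := Finset.mem_filter.1 (Finset.mem_coe.1 hf)
      refine Finset.mem_coe.2 (Finset.mem_filter.2 ⟨hH f h1, fun u => ?_⟩)
      change f (H (u + r)) = f (H u)
      rw [H_add, h2]
    · intro f _ g _ h
      funext u
      obtain ⟨v, rfl⟩ := H_surj u
      exact congrFun h v
  have hXi : ∀ n r, F (X^[n] r) ≤ F r := by
    intro n
    induction n with
    | zero => intro r; exact le_rfl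
    | succ n ih => intro r; rw [Function.iterate_succ_apply]; exact (ih _).trans (hFX r)
  have hHi : ∀ n r, F (H^[n] r) ≤ F r := by
    intro n
    induction n with
    | zero => intro r; exact le_rfl
    | succ n ih => intro r; rw [Function.iterate_succ_apply]; exact (ih _).trans (hFH r)
  have hle : ∀ r s : I, r ≠ 0 → s ≠ 0 → F r ≤ F s := by
    intro r s hr hs
    obtain ⟨i, j, k, h⟩ := trans s r hs hr
    rw [← h]
    exact (hXi _ _).trans ((hHi _ _).trans (hXi _ _))
  have hB := MulAction.sum_card_fixedBy_eq_card_orbits_mul_card_group (Multiplicative I) T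
  have hcard : Fintype.card (Multiplicative I) = 16 := rfl
  have hfb : ∀ a : Multiplicative I, Fintype.card (MulAction.fixedBy T a) = F (Multiplicative.toAdd a) := by
    intro a
    rw [← Nat.card_eq_fintype_card]
    have h1 : F (Multiplicative.toAdd a) = Nat.card {f : I → κ // f ∈ T.filter fun f => Inv f (Multiplicative.toAdd a)} := by
      rw [Nat.card_eq_fintype_card, Fintype.card_coe]
    rw [h1]
    refine Nat.card_congr ⟨fun f => ⟨f.1.1, Finset.mem_filter.2 ⟨f.1.2, fun u => ?_⟩⟩,
      fun f => ⟨⟨f.1, (Finset.mem_filter.1 f.2).1⟩, ?_⟩, fun _ => rfl, fun _ => rfl⟩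
    · exact congrFun (congrArg Subtype.val f.2) u
    · apply Subtype.ext
      funext u
      exact (Finset.mem_filter.1 f.2).2 u
  simp only [hfb] at hB
  rw [hcard] at hB
  have hsum : ∑ a : Multiplicative I, F (Multiplicative.toAdd a) = F 0 + 15 * F e := by
    have h1 : ∑ a : Multiplicative I, F (Multiplicative.toAdd a) = ∑ a : I, F a := rfl
    exact h1.trans (sum_two F hle)
  rw [hsum] at hB
  have h0 : F 0 = T.card := by
    change (T.filter fun f => Inv f 0).card = _
    rw [Finset.filter_true_of_mem fun f _ => Inv.zero]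
  have h1 : F e ≤ T.card := Finset.card_filter_le _ _
  by_contra hlt
  have h2 : F e = T.card := by omega
  apply hc
  apply isC_of_inv
  intro r
  rcases eq_or_ne r 0 with rfl | hr
  · exact Inv.zero
  · have h3 : T.card ≤ F r := by rw [← h2]; exact hle e r e_ne hr
    have h4 : (T.filter fun f => Inv f r) = T := Finset.eq_of_subset_of_card_le (Finset.filter_subset _ _) h3
    have h5 : f₀ ∈ T.filter fun f => Inv f r := by rw [h4]; exact hf₀
    exact (Finset.mem_filter.1 h5).2

/-- **at least 14 functions are moved by `X`** -/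
theorem count (Ω : Finset (I → κ)) (htr : ∀ f ∈ Ω, ∀ a, (fun u => f (u + a)) ∈ Ω)
    (hX : ∀ f ∈ Ω, (fun u => f (X u)) ∈ Ω) (hH : ∀ f ∈ Ω, (fun u => f (H u)) ∈ Ω)
    {f₀ : I → κ} (hf₀ : f₀ ∈ Ω) (hc : ¬ IsC f₀) :
    ∃ T : Finset (I → κ), 14 ≤ T.card ∧ ∀ f ∈ T, f ∈ Ω ∧ (fun u => f (X u)) ≠ f := by
  classical
  by_cases hfix : ∃ f ∈ Ω, ¬ IsC f ∧ (fun u => f (X u)) = f
  · obtain ⟨f, hf, hcf, hfx⟩ := hfix
    obtain ⟨T, h1, h2⟩ := count_fix (f := f) (congrFun hfx) hcf
    refine ⟨T, h1, fun g hg => ?_⟩
    obtain ⟨⟨a, rfl⟩, h3⟩ := h2 g hg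
    exact ⟨htr f hf a, h3⟩
  · push Not at hfix
    refine ⟨Ω.filter fun f => ¬ IsC f, ?_, ?_⟩
    · refine count_nc _ ?_ ?_ ?_ (Finset.mem_filter.2 ⟨hf₀, hc⟩) hc
      · intro f hf a
        obtain ⟨h1, h2⟩ := Finset.mem_filter.1 hf
        refine Finset.mem_filter.2 ⟨htr f h1 a, fun h => h2 fun u v => ?_⟩
        have h3 := h (u + a) (v + a)
        simp only at h3
        rwa [add_assoc, add_assoc, add_self, add_zero, add_zero] at h3
      · intro f hf
        obtain ⟨h1, h2⟩ := Finset.mem_filter.1 hf
        refine Finset.mem_filter.2 ⟨hX f h1, fun h => h2 fun u v => ?_⟩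
        obtain ⟨u, rfl⟩ := X_surj u
        obtain ⟨v, rfl⟩ := X_surj v
        exact h u v
      · intro f hf
        obtain ⟨h1, h2⟩ := Finset.mem_filter.1 hf
        refine Finset.mem_filter.2 ⟨hH f h1, fun h => h2 fun u v => ?_⟩
        obtain ⟨u, rfl⟩ := H_surj u
        obtain ⟨v, rfl⟩ := H_surj v
        exact h u v
    · intro f hf
      obtain ⟨h1, h2⟩ := Finset.mem_filter.1 hf
      exact ⟨h1, hfix f h1 h2⟩

end Cfsg.Agent.H795.RIM.Aff
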