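import Cfsg.Agent.H795.RIM.AffCount
import Cfsg.Agent.H887.RIM.AT2

/-!
# S4816, `U₆(2)`, `p = 5`: sixteen commuting involutions forming an affine plane, in a central extension (helper795)

`Dat S`: an elementary abelian group `q (F₄²)` of order 16, elements `x`, `h` of order 5 and 3 acting on it as elements
of `SL₂(4)` and an involution `t` commuting with `x`, `h`, such that `t ^ (q e)` commutes with `t` and the products over
two parallel lines of the affine plane `{t ^ (q u)}` agree.

`codim`: in every central extension `E` of `S` and every faithful `E`-module `V` in characteristic `p ≠ 2` prime to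
the order of the kernel, the lift of order 5 of `x` has a fixed space of codimension at least 12.
-/

set_option autoImplicit false
set_option linter.unusedSectionVars false
set_option linter.style.haveILetI false

namespace Cfsg.Agent.H795.RIM.Aff

open Cfsg.Agent.SporadicA.FieldFour F4 Cfsg.Agent.H887.RIM Module
open scoped commutatorElement

/-- the conjugates of `t` -/
def tl {E : Type*} [Group E] (q : I → E) (t : E) (u : I) : E := q u * t * (q u)⁻¹

structure Dat (S : Type*) [Group S] where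
  q : I → S
  t : S
  x : S
  h : S
  hq : ∀ a b, q a * q b = q (a + b)
  hx : ∀ u, x * q u = q (X u) * x
  hh : ∀ u, h * q u = q (H u) * h
  xt : x * t = t * x
  ht : h * t = t * h
  tt : t * t = 1
  x5 : x ^ 5 = 1
  h3 : h ^ 3 = 1
  com : tl q t 0 * tl q t e = tl q t e * tl q t 0
  rel : tl q t (z, z) * tl q t (o, z) * tl q t (w, z) * tl q t (v, z) =
    tl q t (z, o) * tl q t (o, o) * tl q t (w, o) * tl q t (v, o)
  ne : tl q t e ≠ tl q t 0

section ext

variable {S E : Type*} [Group S] [Group E] {π : E →* S} (hker : π.ker ≤ Subgroup.center E)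
include hker

theorem cen_of {a b : E} (h : π a = π b) : ∃ c ∈ Subgroup.center E, c ∈ π.ker ∧ a = b * c := by
  have h1 : b⁻¹ * a ∈ π.ker := by rw [MonoidHom.mem_ker, map_mul, map_inv, h, inv_mul_cancel]
  exact ⟨b⁻¹ * a, hker h1, h1, by rw [mul_inv_cancel_left]⟩

/-- elements of coprime order modulo the centre -/
theorem comm_lift {c t : E} {m : ℕ} (hm : Odd m) (hc : π c ^ m = 1) (ht : π t * π t = 1) (h : π c * π t = π t * π c) :
    c * t = t * c := by
  obtain ⟨z, hz, -, hzz⟩ := cen_of hker (a := c * t) (b := t * c) (by rw [map_mul, map_mul, h])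
  have hzc : ∀ g : E, g * z = z * g := fun g => Subgroup.mem_center_iff.1 hz g
  have htc : ∀ g : E, g * (t * t) = t * t * g := by
    have h1 : t * t ∈ Subgroup.center E := hker (by rw [MonoidHom.mem_ker, map_mul, ht])
    exact fun g => Subgroup.mem_center_iff.1 h1 g
  have hcc : ∀ g : E, g * c ^ m = c ^ m * g := by
    have h1 : c ^ m ∈ Subgroup.center E := hker (by rw [MonoidHom.mem_ker, map_pow, hc])
    exact fun g => Subgroup.mem_center_iff.1 h1 g
  -- `z ^ 2 = 1`
  have h2 : z * z = 1 := by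
    have h1 : c * (t * t) = t * t * c * (z * z) := by
      calc c * (t * t) = (c * t) * t := by rw [mul_assoc]
        _ = t * (c * z) * t := by rw [hzz]; simp only [mul_assoc]
        _ = t * (c * t) * z := by simp only [mul_assoc]; rw [← hzc t]
        _ = t * t * c * (z * z) := by rw [hzz]; simp only [mul_assoc]
    rw [htc c] at h1
    exact (mul_eq_left.1 h1.symm)
  have hpow : ∀ n : ℕ, c ^ n * t = t * c ^ n * z ^ n := by
    intro n
    induction n with
    | zero => simp
    | succ n ih =>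
      have hzn : ∀ g : E, g * z ^ n = z ^ n * g := by
        have h1 : z ^ n ∈ Subgroup.center E := pow_mem hz n
        exact fun g => Subgroup.mem_center_iff.1 h1 g
      calc c ^ (n + 1) * t = c ^ n * (c * t) := by rw [pow_succ, mul_assoc]
        _ = (c ^ n * t) * c * z := by rw [hzz]; simp only [mul_assoc]
        _ = t * c ^ n * (z ^ n * c) * z := by rw [ih]; simp only [mul_assoc]
        _ = t * c ^ (n + 1) * z ^ (n + 1) := by rw [← hzn c, pow_succ, pow_succ]; simp only [mul_assoc]
  have h3 : z ^ m = 1 := by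
    have h1 := hpow m
    rw [← hcc t] at h1
    exact mul_eq_left.1 h1.symm
  obtain ⟨k, rfl⟩ := hm
  rw [pow_add, pow_mul, pow_two, h2, one_pow, one_mul, pow_one] at h3
  rw [hzz, h3, mul_one]

theorem conj_tl {q : I → S} {qh : I → E} {t : E} (hq : ∀ u, π (qh u) = q u) {n c : E} {u u' : I}
    (hc : c * t = t * c) (h : π n * q u = q u' * π c) : n * tl qh t u * n⁻¹ = tl qh t u' := by
  obtain ⟨z, hz, -, hzz⟩ := cen_of hker (a := n * qh u) (b := qh u' * c) (by rw [map_mul, map_mul, hq, hq, h])
  have hzc : ∀ g : E, g * z = z * g := fun g => Subgroup.mem_center_iff.1 hz g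
  have h1 : n * tl qh t u * n⁻¹ = (n * qh u) * t * (n * qh u)⁻¹ := by
    unfold tl
    rw [mul_inv_rev]
    simp only [mul_assoc]
  rw [h1, hzz]
  have h2 : qh u' * c * z * t * (qh u' * c * z)⁻¹ = qh u' * (c * (z * t * z⁻¹) * c⁻¹) * (qh u')⁻¹ := by
    rw [mul_inv_rev, mul_inv_rev]
    simp only [mul_assoc]
  rw [h2, ← hzc t, mul_inv_cancel_right, hc, mul_inv_cancel_right]
  rfl

end ext

section cover

variable {S E : Type*} [Group S] [Group E] (D : Dat S) {π : E →* S} (hker : π.ker ≤ Subgroup.center E)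
  {qh : I → E} {t x h : E} (hq : ∀ u, π (qh u) = D.q u) (ht : π t = D.t) (hx : π x = D.x) (hh : π h = D.h)
include hker hq ht

theorem conj_q (a u : I) : qh a * tl qh t u * (qh a)⁻¹ = tl qh t (a + u) :=
  conj_tl hker hq (c := 1) (by rw [one_mul, mul_one]) (by rw [hq, D.hq, map_one, mul_one])

include hx in
theorem xt_comm : x * t = t * x :=
  comm_lift hker (m := 5) (by decide) (by rw [hx, D.x5]) (by rw [ht, D.tt]) (by rw [hx, ht, D.xt])

include hh in
theorem ht_comm : h * t = t * h :=
  comm_lift hker (m := 3) (by decide) (by rw [hh, D.h3]) (by rw [ht, D.tt]) (by rw [hh, ht, D.ht])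

include hx in
theorem conj_x (u : I) : x * tl qh t u * x⁻¹ = tl qh t (X u) :=
  conj_tl hker hq (xt_comm D hker hq ht hx) (by rw [hx, D.hx])

include hh in
theorem conj_h (u : I) : h * tl qh t u * h⁻¹ = tl qh t (H u) :=
  conj_tl hker hq (ht_comm D hker hq ht hh) (by rw [hh, D.hh])

omit hker in
theorem map_tl (u : I) : π (tl qh t u) = tl D.q D.t u := by
  unfold tl
  rw [map_mul, map_mul, map_inv, hq, ht]

omit hker hq ht in
theorem conj_com (g a b : E) : ⁅g * a * g⁻¹, g * b * g⁻¹⁆ = g * ⁅a, b⁆ * g⁻¹ := by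
  rw [commutatorElement_def, commutatorElement_def]
  group

include hx hh in
/-- the commutators are equal to one central element -/
theorem exists_beta : ∃ β ∈ Subgroup.center E, ∀ a b, a ≠ b → ⁅tl qh t a, tl qh t b⁆ = β := by
  have hcen : ⁅tl qh t 0, tl qh t e⁆ ∈ Subgroup.center E := by
    apply hker
    rw [MonoidHom.mem_ker, map_commutatorElement, map_tl D hq ht, map_tl D hq ht, commutatorElement_eq_one_iff_mul_comm]
    exact D.com
  have hcg : ∀ g : E, g * ⁅tl qh t 0, tl qh t e⁆ * g⁻¹ = ⁅tl qh t 0, tl qh t e⁆ := fun g => by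
    rw [Subgroup.mem_center_iff.1 hcen g, mul_inv_cancel_right]
  have hX : ∀ u, ⁅tl qh t 0, tl qh t u⁆ = ⁅tl qh t 0, tl qh t e⁆ → ⁅tl qh t 0, tl qh t (X u)⁆ = ⁅tl qh t 0, tl qh t e⁆ := by
    intro u hu
    have h0 := conj_x D hker hq ht hx 0
    rw [X_zero] at h0
    rw [← conj_x D hker hq ht hx u]
    conv_lhs => rw [← h0]
    rw [conj_com, hu, hcg]
  have hH : ∀ u, ⁅tl qh t 0, tl qh t u⁆ = ⁅tl qh t 0, tl qh t e⁆ → ⁅tl qh t 0, tl qh t (H u)⁆ = ⁅tl qh t 0, tl qh t e⁆ := by
    intro u hu
    have h0 := conj_h D hker hq ht hh 0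
    rw [H_zero] at h0
    rw [← conj_h D hker hq ht hh u]
    conv_lhs => rw [← h0]
    rw [conj_com, hu, hcg]
  have hXi : ∀ n u, ⁅tl qh t 0, tl qh t u⁆ = ⁅tl qh t 0, tl qh t e⁆ →
      ⁅tl qh t 0, tl qh t (X^[n] u)⁆ = ⁅tl qh t 0, tl qh t e⁆ := by
    intro n
    induction n with
    | zero => intro u hu; exact hu
    | succ n ih => intro u hu; rw [Function.iterate_succ_apply]; exact ih _ (hX u hu)
  have hHi : ∀ n u, ⁅tl qh t 0, tl qh t u⁆ = ⁅tl qh t 0, tl qh t e⁆ →
      ⁅tl qh t 0, tl qh t (H^[n] u)⁆ = ⁅tl qh t 0, tl qh t e⁆ := by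
    intro n
    induction n with
    | zero => intro u hu; exact hu
    | succ n ih => intro u hu; rw [Function.iterate_succ_apply]; exact ih _ (hH u hu)
  have hall : ∀ u, u ≠ 0 → ⁅tl qh t 0, tl qh t u⁆ = ⁅tl qh t 0, tl qh t e⁆ := by
    intro u hu
    obtain ⟨i, j, k, h⟩ := trans e u e_ne hu
    rw [← h]
    exact hXi _ _ (hHi _ _ (hXi _ _ rfl))
  refine ⟨_, hcen, fun a b hab => ?_⟩
  have h1 : a + b ≠ 0 := by
    intro h
    apply hab
    calc a = a + (b + b) := by rw [add_self, add_zero]
      _ = (a + b) + b := by rw [add_assoc]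
      _ = b := by rw [h, zero_add]
  have h2 := conj_q D hker hq ht a 0
  have h3 := conj_q D hker hq ht a (a + b)
  rw [add_zero] at h2
  rw [← add_assoc, add_self, zero_add] at h3
  rw [← h2, ← h3, conj_com, hall _ h1, hcg]

include hx hh in
/-- **the sixteen involutions commute in the cover** -/
theorem tl_comm (a b : I) : tl qh t a * tl qh t b = tl qh t b * tl qh t a := by
  obtain ⟨β, hβ, hβ1⟩ := exists_beta D hker hq ht hx hh
  have hβc : ∀ g : E, g * β = β * g := fun g => Subgroup.mem_center_iff.1 hβ g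
  have hβ2 : β * β = 1 := by
    have h1 := hβ1 0 e e_ne.symm
    have h2 := hβ1 e 0 e_ne
    have h3 : ⁅tl qh t 0, tl qh t e⁆ * ⁅tl qh t e, tl qh t 0⁆ = 1 := by
      rw [commutatorElement_def, commutatorElement_def]
      group
    rwa [h1, h2] at h3
  -- conjugation by `tl 0`
  have hcj : ∀ b, b ≠ 0 → MulAut.conj (tl qh t 0) (tl qh t b) = β * tl qh t b := by
    intro b hb
    have h1 := hβ1 0 b hb.symm
    rw [← h1, MulAut.conj_apply, commutatorElement_def]
    group
  have hcj0 : MulAut.conj (tl qh t 0) (tl qh t (z, z)) = tl qh t (z, z) := by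
    rw [MulAut.conj_apply]
    change tl qh t 0 * tl qh t 0 * (tl qh t 0)⁻¹ = tl qh t 0
    rw [mul_inv_cancel_right]
  have hpair : ∀ A B : E, β * A * (β * B) = A * B := by
    intro A B
    rw [← mul_assoc, mul_assoc β A β, hβc A, ← mul_assoc, hβ2, one_mul]
  obtain ⟨z', hz', -, hzz⟩ := cen_of hker (a := tl qh t (z, z) * tl qh t (o, z) * tl qh t (w, z) * tl qh t (v, z))
    (b := tl qh t (z, o) * tl qh t (o, o) * tl qh t (w, o) * tl qh t (v, o)) (by
      simp only [map_mul, map_tl D hq ht]
      exact D.rel)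
  have hzc : MulAut.conj (tl qh t 0) z' = z' := by
    rw [MulAut.conj_apply, Subgroup.mem_center_iff.1 hz' _, mul_inv_cancel_right]
  have h1 : MulAut.conj (tl qh t 0) (tl qh t (z, z) * tl qh t (o, z) * tl qh t (w, z) * tl qh t (v, z)) =
      β * (tl qh t (z, z) * tl qh t (o, z) * tl qh t (w, z) * tl qh t (v, z)) := by
    rw [map_mul, map_mul, map_mul, hcj0, hcj _ (by decide), hcj _ (by decide), hcj _ (by decide)]
    rw [mul_assoc (tl qh t (z, z)), hpair, ← mul_assoc _ β, hβc]
    simp only [mul_assoc]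
  have h2 : MulAut.conj (tl qh t 0) (tl qh t (z, o) * tl qh t (o, o) * tl qh t (w, o) * tl qh t (v, o)) =
      tl qh t (z, o) * tl qh t (o, o) * tl qh t (w, o) * tl qh t (v, o) := by
    rw [map_mul, map_mul, map_mul, hcj _ (by decide), hcj _ (by decide), hcj _ (by decide), hcj _ (by decide)]
    rw [hpair, mul_assoc (tl qh t (z, o) * tl qh t (o, o)), hpair]
    simp only [mul_assoc]
  have hβ1' : β = 1 := by
    have h3 := congrArg (MulAut.conj (tl qh t 0)) hzz
    rw [h1, map_mul, h2, hzc, ← hzz] at h3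
    exact mul_eq_right.1 h3
  rcases eq_or_ne a b with rfl | hab
  · rfl
  · have h3 := hβ1 a b hab
    rwa [hβ1', commutatorElement_eq_one_iff_mul_comm] at h3

end cover

end Cfsg.Agent.H795.RIM.Aff
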