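import Cfsg.Agent.H795.RIM.AffCover
import Cfsg.Agent.H852.USixElts

/-!
# S4816, `U₆(2)`, `p = 5`: the affine plane of sixteen transvections (helper795)
-/

set_option autoImplicit false

namespace Cfsg.Agent.H795.RIM.Aff

open Cfsg Matrix Cfsg.Agent.SporadicA.FieldFour F4 Cfsg.Agent.H852.USixElts

def QM (u : I) : M6 :=
  !![o, z, z, z, u.1 * v, u.1 * w;
     z, o, z, z, u.1 * v, u.1 * w;
     z, z, o, z, u.2 * v, u.2 * w;
     z, z, z, o, u.2 * v, u.2 * w;
     w * (u.1 * u.1), w * (u.1 * u.1), w * (u.2 * u.2), w * (u.2 * u.2), o, z;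
     v * (u.1 * u.1), v * (u.1 * u.1), v * (u.2 * u.2), v * (u.2 * u.2), z, o]

/-- the vector of the transvection -/
def av (u : I) : Fin 6 → F4 := ![u.1, u.1, u.2, u.2, o, o]

def TM (u : I) : M6 := Matrix.of fun i j => (if i = j then o else z) + av u i * (av u j * av u j)

def XM : M6 := !![o,o,o,z,z,z; w,w,z,o,z,z; o,z,o,v,z,z; z,o,o,v,z,z; z,z,z,z,o,z; z,z,z,z,z,o]
def HM : M6 := !![w,w,o,z,z,z; v,v,z,o,z,z; o,z,v,w,z,z; z,o,v,w,z,z; z,z,z,z,o,z; z,z,z,z,z,o]

def L1 : M6 := !![z,o,z,z,o,o; o,z,z,z,o,o; z,z,o,z,z,z; z,z,z,o,z,z; o,o,z,z,o,z; o,o,z,z,z,o]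
def L2 : M6 := !![o,z,z,z,o,o; z,o,z,z,o,o; z,z,o,z,z,z; z,z,z,o,z,z; o,o,z,z,o,z; o,o,z,z,z,o]
def L3 : M6 := !![z,o,o,o,o,o; o,z,o,o,o,o; o,o,o,z,z,z; o,o,z,o,z,z; o,o,z,z,o,z; o,o,z,z,z,o]
def L4 : M6 := !![o,z,o,o,o,o; z,o,o,o,o,o; o,o,o,z,z,z; o,o,z,o,z,z; o,o,z,z,o,z; o,o,z,z,z,o]
def L0 : M6 := !![z,o,z,z,z,z; o,z,z,z,z,z; z,z,o,z,z,z; z,z,z,o,z,z; z,z,z,z,o,z; z,z,z,z,z,o]

set_option maxRecDepth 100000

theorem QM_mul : ∀ a b : I, QM a * QM b = QM (a + b) := by decide +kernel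

theorem QM_zero : QM 0 = 1 := by decide +kernel

theorem QM_st : ∀ a : I, st (QM a) * QM a = 1 := by decide +kernel

theorem XM_st : st XM * XM = 1 := by decide +kernel

theorem HM_st : st HM * HM = 1 := by decide +kernel

theorem XM_det : XM.det = 1 := by decide +kernel

theorem HM_det : HM.det = 1 := by decide +kernel

theorem XM_QM : ∀ u : I, XM * QM u = QM (X u) * XM := by decide +kernel

theorem HM_QM : ∀ u : I, HM * QM u = QM (H u) * HM := by decide +kernel

theorem XM_T2 : XM * T2 = T2 * XM := by decide +kernel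

theorem HM_T2 : HM * T2 = T2 * HM := by decide +kernel

def XM2 : M6 := XM * XM

theorem XM_pow : XM * XM * (XM * XM) * XM = 1 := by decide +kernel

theorem HM_pow : HM * HM * HM = 1 := by decide +kernel

theorem TM_QM : ∀ u : I, QM u * T2 = TM u * QM u := by decide +kernel

theorem L1_eq : TM (z, z) * TM (o, z) = L1 := by decide +kernel
theorem L2_eq : TM (w, z) * TM (v, z) = L2 := by decide +kernel
theorem L3_eq : TM (z, o) * TM (o, o) = L3 := by decide +kernel
theorem L4_eq : TM (w, o) * TM (v, o) = L4 := by decide +kernel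
theorem L12 : L1 * L2 = L0 := by decide +kernel
theorem L34 : L3 * L4 = L0 := by decide +kernel

theorem TM_comm : TM 0 * TM e = TM e * TM 0 := by decide +kernel

def qS (u : I) : SU 6 F4 2 := mk (QM u) (QM_st u) (det_one_of_pow 2 (by
  rw [pow_two, QM_mul, add_self, QM_zero]) (by decide))

def xS : SU 6 F4 2 := mk XM XM_st XM_det

def hS : SU 6 F4 2 := mk HM HM_st HM_det

theorem mat_tl (u : I) : mat (tl qS t2 u) = TM u := by
  have h1 : tl qS t2 u * qS u = qS u * t2 := by unfold tl; rw [inv_mul_cancel_right]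
  have h2 := congrArg mat h1
  rw [mat_mul, mat_mul] at h2
  have h3 : mat (qS u) * mat (qS u) = 1 := by
    change QM u * QM u = 1
    rw [QM_mul, add_self, QM_zero]
  have h4 : mat (tl qS t2 u) * QM u = TM u * QM u := by
    rw [← TM_QM]
    exact h2
  have h5 : QM u * QM u = 1 := h3
  calc mat (tl qS t2 u) = mat (tl qS t2 u) * QM u * QM u := by rw [Matrix.mul_assoc, h5, Matrix.mul_one]
    _ = TM u := by rw [h4, Matrix.mul_assoc, h5, Matrix.mul_one]

theorem pr_tl (u : I) : pr (tl qS t2 u) = tl (fun u => pr (qS u)) (pr t2) u := by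
  unfold tl
  rw [map_mul, map_mul, map_inv]

theorem com_su : tl qS t2 0 * tl qS t2 e = tl qS t2 e * tl qS t2 0 := by
  apply mat_inj
  rw [mat_mul, mat_mul, mat_tl, mat_tl]
  exact TM_comm

theorem rel_su : tl qS t2 (z, z) * tl qS t2 (o, z) * tl qS t2 (w, z) * tl qS t2 (v, z) =
    tl qS t2 (z, o) * tl qS t2 (o, o) * tl qS t2 (w, o) * tl qS t2 (v, o) := by
  apply mat_inj
  rw [mat_mul, mat_mul, mat_mul, mat_mul, mat_mul, mat_mul, mat_tl, mat_tl, mat_tl, mat_tl, mat_tl, mat_tl, mat_tl, mat_tl]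
  rw [Matrix.mul_assoc (TM (z, z) * TM (o, z)), Matrix.mul_assoc (TM (z, o) * TM (o, o)), L1_eq, L2_eq, L3_eq, L4_eq,
    L12, L34]

theorem com_pr : tl (fun u => pr (qS u)) (pr t2) 0 * tl (fun u => pr (qS u)) (pr t2) e =
    tl (fun u => pr (qS u)) (pr t2) e * tl (fun u => pr (qS u)) (pr t2) 0 := by
  have h1 := congrArg pr com_su
  rwa [map_mul, map_mul, pr_tl, pr_tl] at h1

theorem rel_pr : tl (fun u => pr (qS u)) (pr t2) (z, z) * tl (fun u => pr (qS u)) (pr t2) (o, z) *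
      tl (fun u => pr (qS u)) (pr t2) (w, z) * tl (fun u => pr (qS u)) (pr t2) (v, z) =
    tl (fun u => pr (qS u)) (pr t2) (z, o) * tl (fun u => pr (qS u)) (pr t2) (o, o) *
      tl (fun u => pr (qS u)) (pr t2) (w, o) * tl (fun u => pr (qS u)) (pr t2) (v, o) := by
  have h1 := congrArg pr rel_su
  rwa [map_mul, map_mul, map_mul, map_mul, map_mul, map_mul, pr_tl, pr_tl, pr_tl, pr_tl, pr_tl, pr_tl, pr_tl,
    pr_tl] at h1

/-- **the data in `U₆(2)`** -/
def dat : Dat (PSU 6 F4 2) where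
  q u := pr (qS u)
  t := pr t2
  x := pr xS
  h := pr hS
  hq a b := by
    rw [← map_mul]
    congr 1
    exact mat_inj (QM_mul a b)
  hx u := by
    rw [← map_mul, ← map_mul]
    congr 1
    exact mat_inj (XM_QM u)
  hh u := by
    rw [← map_mul, ← map_mul]
    congr 1
    exact mat_inj (HM_QM u)
  xt := by
    rw [← map_mul, ← map_mul]
    congr 1
    exact mat_inj XM_T2
  ht := by
    rw [← map_mul, ← map_mul]
    congr 1
    exact mat_inj HM_T2
  tt := by
    rw [← map_mul]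
    have h1 : t2 * t2 = 1 := mat_inj (by
      rw [mat_mul, ← pow_two]
      exact T2_pow)
    rw [h1, map_one]
  x5 := by
    rw [← map_pow]
    have h1 : xS ^ 5 = 1 := by
      have h2 : xS ^ 5 = xS * xS * (xS * xS) * xS := by
        rw [show (5 : ℕ) = 2 + 2 + 1 by norm_num, pow_add, pow_add, pow_two, pow_one]
      rw [h2]
      exact mat_inj XM_pow
    rw [h1, map_one]
  h3 := by
    rw [← map_pow]
    have h1 : hS ^ 3 = 1 := by
      rw [pow_three']
      exact mat_inj HM_pow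
    rw [h1, map_one]
  com := com_pr
  rel := rel_pr
  ne := by
    rw [← pr_tl, ← pr_tl]
    intro h1
    have h2 : pr (tl qS t2 e * (tl qS t2 0)⁻¹) = 1 := by rw [map_mul, map_inv, h1, mul_inv_cancel]
    obtain ⟨c, -, hc⟩ := pr_eq_one h2
    have h3 : mat (tl qS t2 e) = c • mat (tl qS t2 0) := by
      have h4 : tl qS t2 e = tl qS t2 e * (tl qS t2 0)⁻¹ * tl qS t2 0 := by rw [inv_mul_cancel_right]
      rw [h4, mat_mul, hc, Matrix.smul_mul, Matrix.one_mul]
    rw [mat_tl, mat_tl] at h3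
    have h4 := congrFun (congrFun h3 0) 1
    have h5 : TM e 0 1 = o := by decide +kernel
    have h6 : (c • TM 0) 0 1 = z := by
      rw [Matrix.smul_apply]
      have h7 : TM 0 0 1 = 0 := by decide +kernel
      rw [h7, smul_zero]
      rfl
    rw [h5, h6] at h4
    exact absurd h4 (by decide)

end Cfsg.Agent.H795.RIM.Aff
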